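import Groth.Agent.S1846
import Groth.Agent.S7623
import Groth.Agent.S9829
import Groth.Agent.S0558
import Groth.Agent.Vanish.K27.RingBert
import Groth.Agent.KodV.K850.FrobSeq
import Groth.Agent.Fdesc.GeomRed

/-!
# `p`-th roots of primitive elements with zero differential

`exists_root`: in a reduced Hopf algebra of finite type over a perfect field of characteristic `p`, a primitive
element lying in the square of the augmentation ideal is the `p`-th power of a primitive element.
-/

set_option autoImplicit false
universe u v w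
open TensorProduct

namespace K983.FrobRoot

open Groth.Agent

/-- A primitive element in the square of the augmentation ideal has zero differential. -/
theorem D_eq_zero (k : Type u) [CommRing k] (C : Type v) [CommRing C] [HopfAlgebra k C] (f : C)
    (hf : CoalgebraStruct.comul (R := k) f = f ⊗ₜ[k] 1 + 1 ⊗ₜ[k] f)
    (hf2 : f ∈ RingHom.ker (Bialgebra.counitAlgHom k C) ^ 2) :
    KaehlerDifferential.D k C f = 0 := by
  have h1 : S1846.del k C 1 = 0 := by
    have := S1846.del_mul k C 1 1
    rw [mul_one, Bialgebra.counit_one, one_smul] at this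
    exact left_eq_add.1 this
  have h2 : S1846.del k C f = 0 := by
    rw [pow_two] at hf2
    refine Submodule.mul_induction_on hf2 ?_ ?_
    · intro a ha b hb
      have ha' : Coalgebra.counit (R := k) a = 0 := ha
      have hb' : Coalgebra.counit (R := k) b = 0 := hb
      rw [S1846.del_mul, ha', hb', zero_smul, zero_smul, add_zero]
    · intro a b ha hb
      rw [map_add, ha, hb, add_zero]
  rw [← S1846.psi_phi_D, hf, map_add, LinearMap.lTensor_tmul, LinearMap.lTensor_tmul, h1, h2,
    tmul_zero, tmul_zero, add_zero, map_zero]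

/-- Over a perfect field of characteristic `p`, an element with zero differential of a ring of characteristic `p`
whose local rings are normal domains is a `p`-th power. -/
theorem exists_pow_of_local (k : Type u) [Field k] (p : ℕ) [Fact p.Prime] [CharP k p] [PerfectRing k p]
    (C : Type u) [CommRing C] [Algebra k C] (hloc : ∀ (P : Ideal C) [P.IsPrime],
      IsDomain (Localization.AtPrime P) ∧ IsIntegrallyClosed (Localization.AtPrime P))
    (f : C) (hf : KaehlerDifferential.D k C f = 0) : ∃ b : C, b ^ p = f := by
  rcases subsingleton_or_nontrivial C with hC | hC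
  · exact ⟨0, Subsingleton.elim _ _⟩
  have hp : CharP C p := charP_of_injective_algebraMap (algebraMap k C).injective p
  let J : Ideal C :=
    { carrier := {s | ∃ b : C, b ^ p = f * s ^ p}
      add_mem' := by
        rintro s t ⟨b, hb⟩ ⟨c, hc⟩
        exact ⟨b + c, by rw [add_pow_char, add_pow_char, hb, hc, mul_add]⟩
      zero_mem' := ⟨0, by rw [zero_pow (Fact.out : p.Prime).ne_zero, mul_zero]⟩
      smul_mem' := by
        rintro r s ⟨b, hb⟩
        exact ⟨r * b, by rw [smul_eq_mul, mul_pow, mul_pow, hb]; ring⟩ }
  have hJ : J = ⊤ := by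
    by_contra hne
    obtain ⟨P, hP, hJP⟩ := Ideal.exists_le_maximal J hne
    have := hP.isPrime
    obtain ⟨i1, i2⟩ := hloc P
    have h1 : KaehlerDifferential.D k (Localization.AtPrime P)
        (algebraMap C (Localization.AtPrime P) f) = 0 := by
      rw [← KaehlerDifferential.map_D k k C (Localization.AtPrime P) f, hf, map_zero]
    obtain ⟨b, hb⟩ := K850.FrobSeq.exists_pow_eq p _ h1
    obtain ⟨⟨c, s⟩, hcs⟩ := IsLocalization.surj P.primeCompl b
    simp only at hcs
    have h2 : algebraMap C (Localization.AtPrime P) (c ^ p) =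
        algebraMap C (Localization.AtPrime P) (f * (s : C) ^ p) := by
      rw [map_pow, ← hcs, mul_pow, hb, map_mul, map_pow]
    obtain ⟨t, ht⟩ := (IsLocalization.eq_iff_exists P.primeCompl _).1 h2
    have h3 : (t : C) * s ∈ J := by
      refine ⟨t * c, ?_⟩
      obtain ⟨n, hn⟩ : ∃ n, p = n + 1 := ⟨p - 1, by
        have := (Fact.out : p.Prime).pos
        omega⟩
      calc (t * c : C) ^ p = (t : C) ^ p * c ^ p := mul_pow _ _ _
        _ = (t : C) ^ n * (t * c ^ p) := by rw [hn, pow_succ]; ring
        _ = (t : C) ^ n * (t * (f * (s : C) ^ p)) := by rw [ht]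
        _ = f * (t * s : C) ^ p := by
          rw [mul_pow]
          conv_rhs => rw [hn, pow_succ (t : C)]
          rw [hn]
          ring
    have h4 : (t : C) * s ∈ P := hJP h3
    rcases hP.isPrime.mem_or_mem h4 with h | h
    · exact t.2 h
    · exact s.2 h
  obtain ⟨b, hb⟩ : (1 : C) ∈ J := hJ ▸ Submodule.mem_top
  exact ⟨b, by rw [hb, one_pow, mul_one]⟩

/-- A reduced Hopf algebra of finite type over a perfect field is smooth. -/
theorem smooth (k : Type u) [Field k] [PerfectField k] (C : Type u) [CommRing C] [HopfAlgebra k C]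
    [Algebra.FiniteType k C] [IsReduced C] : Algebra.Smooth k C := by
  have : Module.Free C (Ω[C⁄k]) := S1846.result k C
  exact S7623.result k C

/-- **A primitive element of a smooth Hopf algebra over a perfect field of characteristic `p` which lies in the
square of the augmentation ideal is the `p`-th power of a primitive element.** -/
theorem exists_root (k : Type u) [Field k] (p : ℕ) [Fact p.Prime] [CharP k p] [PerfectField k]
    (C : Type u) [CommRing C] [HopfAlgebra k C] [Algebra.FiniteType k C] [IsReduced C] (f : C)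
    (hf : CoalgebraStruct.comul (R := k) f = f ⊗ₜ[k] 1 + 1 ⊗ₜ[k] f)
    (hf2 : f ∈ RingHom.ker (Bialgebra.counitAlgHom k C) ^ 2) :
    ∃ h : C, CoalgebraStruct.comul (R := k) h = h ⊗ₜ[k] 1 + 1 ⊗ₜ[k] h ∧ h ^ p = f := by
  have hsm : Algebra.Smooth k C := smooth k C
  have hpr : PerfectRing k p := PerfectField.toPerfectRing p
  obtain ⟨h, hh⟩ := exists_pow_of_local k p C (fun P _ => by
    have h1 : IsRegularLocalRing (Localization.AtPrime P) :=
      K27.RingBert.isRegularLocalRing_of_smooth k C P
    exact ⟨S0558.result _, S9829.result _⟩) f (D_eq_zero k C f hf hf2)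
  refine ⟨h, ?_, hh⟩
  have hred : IsReduced (C ⊗[k] C) := Groth.Agent.Fdesc.GeomRed.isReduced_tensor_of_perfectField C C
  rcases subsingleton_or_nontrivial (C ⊗[k] C) with hC | hC
  · exact Subsingleton.elim _ _
  have hp : CharP (C ⊗[k] C) p := charP_of_injective_algebraMap (algebraMap k (C ⊗[k] C)).injective p
  have h1 : (Bialgebra.comulAlgHom k C h) ^ p = (h ⊗ₜ[k] 1 + 1 ⊗ₜ[k] h : C ⊗[k] C) ^ p := by
    rw [← map_pow, hh, add_pow_char, Algebra.TensorProduct.tmul_pow, Algebra.TensorProduct.tmul_pow,
      one_pow, hh]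
    exact hf
  have h2 : (Bialgebra.comulAlgHom k C h - (h ⊗ₜ[k] 1 + 1 ⊗ₜ[k] h : C ⊗[k] C)) ^ p = 0 := by
    rw [sub_pow_char, h1, sub_self]
  have h3 := eq_zero_of_pow_eq_zero h2
  exact sub_eq_zero.1 h3

end K983.FrobRoot
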